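import Groth.Agent.EtBC.CompNBase
import Groth.Agent.BcBridge.Et
import Groth.Agent.GabberAff13.Pair
import Groth.Agent.BCCrit13.Basic
import Groth.Agent.UnitStalk.Fibre
import Groth.Agent.S14389

/-! cohomology of proper schemes over strictly local bases and their fibres -/

set_option autoImplicit false
set_option linter.style.haveILetI false
set_option linter.unusedSectionVars false
set_option maxHeartbeats 1000000
universe u

open CategoryTheory CategoryTheory.Limits AlgebraicGeometry Opposite CategoryTheory.Abelian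

namespace Groth.Agent.ProperLA12

open Groth.Agent.EtLimit Groth.Agent.EtFound Groth.Agent.EtLC12

set_option backward.isDefEq.respectTransparency.types false

variable {X Y Xb Yb : Scheme.{u}}

/-- all positive cohomology vanishes -/
def HVanish (X : Scheme.{u}) : Prop := ∀ (G : EtCoh.Ab X) (q : ℕ), Subsingleton (EtCoh.H X G (q + 1))

theorem hofPush_zero_bijective (f : Xb ⟶ X) [PreservesFiniteLimits (EtCoh.pull f)] (F : EtCoh.Ab Xb) :
    Function.Bijective (EtLim.HofPush f F 0) := by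
  haveI : PreservesColimitsOfSize.{0, 0} (EtCoh.pull f) := (EtCoh.pullPushAdj f).leftAdjoint_preservesColimits
  haveI : PreservesFiniteColimits (EtCoh.pull f) := PreservesColimitsOfSize.preservesFiniteColimits _
  haveI : (EtCoh.pull f).Additive := Functor.additive_of_preserves_binary_products _
  haveI : (EtCoh.push f).Additive := Functor.additive_of_preserves_binary_products _
  have e : (EtLim.HofPush f F 0 : _ → _) = (fun z => (Ext.mk₀ (EtCore.pullConst f ℤ).inv).comp z (zero_add 0)) ∘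
      EtFound.edge (EtCoh.pullPushAdj f) (EtCoh.const X ℤ) F 0 := funext fun x => by
    show ((Ext.mk₀ (EtCore.pullConst f ℤ).inv).comp (x.mapExactFunctor (EtCoh.pull f)) (zero_add 0)).comp
      (Ext.mk₀ _) (add_zero 0) = (Ext.mk₀ _).comp (EtFound.edge _ _ _ 0 x) (zero_add 0)
    rw [EtFound.edge_apply, Ext.comp_assoc_of_third_deg_zero]
  rw [e]
  exact (EtFound.precomp_bijective _ _).comp (EtFound.edge_zero_bijective _ _ _)

/-- on a scheme without higher cohomology, sections preserve right exact sequences -/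
theorem sections_exact (hX : HVanish X) {A B C : EtCoh.Ab X} (a : A ⟶ B) (b : B ⟶ C) (w : a ≫ b = 0)
    (he : (ShortComplex.mk a b w).Exact) [Epi b] :
    (∀ y, hmap b 0 y = 0 → ∃ x, hmap a 0 x = y) ∧ Function.Surjective (hmap b 0) := by
  let S : ShortComplex (EtCoh.Ab X) := ShortComplex.mk (kernel.ι b) b (kernel.condition b)
  have hS : S.ShortExact :=
    { exact := ShortComplex.exact_of_f_is_kernel _ (kernelIsKernel b)
      mono_f := inferInstanceAs (Mono (kernel.ι b))
      epi_g := inferInstanceAs (Epi b) }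
  refine ⟨fun y hy => ?_, fun z => ?_⟩
  · obtain ⟨k, rfl⟩ := exists_hmap_of_hmap_eq_zero hS 0 y hy
    let e : A ⟶ kernel b := kernel.lift b a w
    haveI : Epi e := he.epi_kernelLift
    let T : ShortComplex (EtCoh.Ab X) := ShortComplex.mk (kernel.ι e) e (kernel.condition e)
    have hT : T.ShortExact :=
      { exact := ShortComplex.exact_of_f_is_kernel _ (kernelIsKernel e)
        mono_f := inferInstanceAs (Mono (kernel.ι e))
        epi_g := inferInstanceAs (Epi e) }
    obtain ⟨x, hx⟩ := exists_hmap_of_hδ_eq_zero hT (rfl : 0 + 1 = 1) k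
      (@Subsingleton.elim _ (hX _ 0) _ _)
    refine ⟨x, ?_⟩
    rw [← hx]
    exact (congrArg (fun t => hmap t 0 x) (kernel.lift_ι b a w).symm).trans (hmap_comp _ _ 0 x).symm
  · exact exists_hmap_of_hδ_eq_zero hS (rfl : 0 + 1 = 1) z (@Subsingleton.elim _ (hX _ 0) _ _)

variable (h : Y ⟶ X) (p : Xb ⟶ X) (hb : Yb ⟶ Xb) (pY : Yb ⟶ Y) (w : hb ≫ p = pY ≫ h)
  [QuasiCompact p] [QuasiSeparated p]
  [PreservesFiniteLimits (EtCoh.pull h)] [PreservesFiniteLimits (EtCoh.pull hb)]
  (hbc : ∀ F : EtCoh.Ab Xb, EtCoh.IsTorsion F → ∀ i : ℕ, IsIso (EtBC.bcQ p h pY hb w i F))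

include hbc in
theorem isIso_baseChange0 (F : EtCoh.Ab Xb) (hF : EtCoh.IsTorsion F) :
    IsIso (EtCoh.baseChange0 p h pY hb w F) := by
  haveI := hbc F hF 0
  haveI := EtFound.push_preservesFiniteLimits p
  haveI := EtFound.push_preservesFiniteLimits pY
  haveI : IsIso (EtCoh.baseChange0 p h pY hb w F ≫ (EtCoh.push pY).toRightDerivedZero.app ((EtCoh.pull hb).obj F)) := by
    rw [← EtBC.bcQ_zero_compat]
    infer_instance
  exact IsIso.of_isIso_comp_right _ ((EtCoh.push pY).toRightDerivedZero.app ((EtCoh.pull hb).obj F))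

theorem baseChange0_naturality {F G : EtCoh.Ab Xb} (a : F ⟶ G) :
    (EtCoh.pull h).map ((EtCoh.push p).map a) ≫ EtCoh.baseChange0 p h pY hb w G =
      EtCoh.baseChange0 p h pY hb w F ≫ (EtCoh.push pY).map ((EtCoh.pull hb).map a) := by
  have n := (BcBridge.theta (EtCoh.pullPushAdj h) (EtBC.pushToPushPull p h pY hb w)).naturality a
  rw [BcBridge.theta_app, BcBridge.theta_app] at n
  exact n

variable [PreservesFiniteLimits (EtCoh.pull pY)]

/-- sections over the fibre through the base change map -/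
noncomputable def toFibre (F : EtCoh.Ab Xb) :
    EtCoh.H Y ((EtCoh.pull h).obj ((EtCoh.push p).obj F)) 0 →+ EtCoh.H Yb ((EtCoh.pull hb).obj F) 0 :=
  (EtLim.HofPush pY ((EtCoh.pull hb).obj F) 0).comp (hmap (EtCoh.baseChange0 p h pY hb w F) 0)

theorem toFibre_natural {F G : EtCoh.Ab Xb} (a : F ⟶ G) (x : EtCoh.H Y ((EtCoh.pull h).obj ((EtCoh.push p).obj F)) 0) :
    toFibre h p hb pY w G (hmap ((EtCoh.pull h).map ((EtCoh.push p).map a)) 0 x) =
      hmap ((EtCoh.pull hb).map a) 0 (toFibre h p hb pY w F x) := by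
  show EtLim.HofPush pY _ 0 (hmap _ 0 (hmap _ 0 x)) = _
  rw [hmap_comp, baseChange0_naturality, ← hmap_comp]
  exact GabberAff13.hofPush_hmap pY _ 0 _

include hbc in
theorem toFibre_bijective (F : EtCoh.Ab Xb) (hF : EtCoh.IsTorsion F) :
    Function.Bijective (toFibre h p hb pY w F) := by
  haveI := isIso_baseChange0 h p hb pY w hbc F hF
  exact (hofPush_zero_bijective pY _).comp (EtBC.hmap_bijective _ 0)

variable [PreservesFiniteLimits (EtCoh.pull p)]

theorem toFibre_Hpull (F : EtCoh.Ab Xb) (a : EtCoh.H X ((EtCoh.push p).obj F) 0) :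
    toFibre h p hb pY w F (EtCore.Hpull h _ 0 a) = EtCore.Hpull hb F 0 (EtLim.HofPush p F 0 a) :=
  (S14389.result p h pY hb w F 0 a).symm

variable (hX : HVanish X) (hY : HVanish Y)

include hbc hX hY in
/-- degree one -/
theorem bijective_Hpull_one {G J : EtCoh.Ab Xb} (i : G ⟶ J) [Mono i] (hG : EtCoh.IsTorsion G)
    (hJ : EtCoh.IsTorsion J) (hQ : EtCoh.IsTorsion (cokernel i))
    (hJR : IsZero ((EtCoh.Rpush p 1).obj J)) (hJX : Subsingleton (EtCoh.H Xb J 1))
    (hJY : Subsingleton (EtCoh.H Yb ((EtCoh.pull hb).obj J) 1))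
    (hM : Function.Bijective (EtCore.Hpull h ((EtCoh.Rpush p 1).obj G) 0)) :
    Function.Bijective (EtCore.Hpull hb G 1) := by
  haveI : PreservesColimitsOfSize.{0, 0} (EtCoh.pull hb) := (EtCoh.pullPushAdj hb).leftAdjoint_preservesColimits
  haveI : (EtCoh.pull hb).Additive := Functor.additive_of_preserves_binary_products _
  haveI : PreservesColimitsOfSize.{0, 0} (EtCoh.pull h) := (EtCoh.pullPushAdj h).leftAdjoint_preservesColimits
  haveI : PreservesFiniteColimits (EtCoh.pull h) := PreservesColimitsOfSize.preservesFiniteColimits _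
  haveI : (EtCoh.pull h).Additive := Functor.additive_of_preserves_binary_products _
  haveI : (EtCoh.push p).Additive := Functor.additive_of_preserves_binary_products _
  haveI := EtFound.push_preservesFiniteLimits p
  let E := ShortComplex.mk i (cokernel.π i) (cokernel.condition i)
  have hE : E.ShortExact := { exact := ShortComplex.exact_of_g_is_cokernel _ (cokernelIsCokernel _) }
  have hE' := hE.map_of_exact (EtCoh.pull hb)
  let Δ := SESResLib.derivedLES (EtCoh.push p)
  let c : (EtCoh.push p).obj E.X₂ ⟶ (EtCoh.push p).obj E.X₃ := (EtCoh.push p).map E.g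
  let d : (EtCoh.push p).obj E.X₃ ⟶ (EtCoh.Rpush p 1).obj E.X₁ :=
    (EtCoh.push p).rightDerivedZeroIsoSelf.inv.app E.X₃ ≫ Δ.δ E hE 0 1 rfl
  have hcd : c ≫ d = 0 := by
    show (EtCoh.push p).map E.g ≫ _ ≫ Δ.δ E hE 0 1 rfl = 0
    rw [← Category.assoc, (EtCoh.push p).rightDerivedZeroIsoSelf.inv.naturality E.g, Category.assoc]
    exact (congrArg ((EtCoh.push p).rightDerivedZeroIsoSelf.inv.app E.X₂ ≫ ·) (Δ.comp_δ E hE 0 1 rfl)).trans comp_zero
  have hex : (ShortComplex.mk c d hcd).Exact := ShortComplex.exact_of_iso (by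
    refine ShortComplex.isoMk ((EtCoh.push p).rightDerivedZeroIsoSelf.app E.X₂)
      ((EtCoh.push p).rightDerivedZeroIsoSelf.app E.X₃) (Iso.refl _)
      ((EtCoh.push p).rightDerivedZeroIsoSelf.hom.naturality E.g).symm ?_
    exact (Iso.hom_inv_id_app_assoc (EtCoh.push p).rightDerivedZeroIsoSelf E.X₃ _).trans (Category.comp_id _).symm)
    (Δ.exact₃ E hE 0 1 rfl)
  haveI : Epi (Δ.δ E hE 0 1 rfl) := (Δ.exact₁ E hE 0 1 rfl).epi_f (hJR.eq_of_tgt _ _)
  haveI : Epi d := epi_comp _ _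
  obtain ⟨eX, sX⟩ := sections_exact hX c d hcd hex
  haveI : Epi ((EtCoh.pull h).map d) := inferInstance
  obtain ⟨eY, sY⟩ := sections_exact hY ((EtCoh.pull h).map c) ((EtCoh.pull h).map d)
    (by rw [← Functor.map_comp, hcd, Functor.map_zero]) (hex.map (EtCoh.pull h))
  have hnat : ∀ {A B : EtCoh.Ab X} (t : A ⟶ B) (a : EtCoh.H X A 0),
      EtCore.Hpull h B 0 (hmap t 0 a) = hmap ((EtCoh.pull h).map t) 0 (EtCore.Hpull h A 0 a) :=
    fun t a => CohCrit13.Hpull_hmap h t 0 a
  have hδnat : ∀ z, EtCore.Hpull hb E.X₁ 1 (hδ hE (rfl : 0 + 1 = 1) z) =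
      hδ hE' (rfl : 0 + 1 = 1) (EtCore.Hpull hb E.X₃ 0 z) := fun z =>
    ((EtBC.hThen_id hb E.X₁ _ _).symm.trans (HpullThen_hδ hb hE hE' (𝟙 _) (𝟙 _) (𝟙 _)
      ((Category.id_comp _).trans (Category.comp_id _).symm) ((Category.id_comp _).trans (Category.comp_id _).symm)
      (rfl : 0 + 1 = 1) z)).trans (congrArg _ (EtBC.hThen_id hb E.X₃ 0 z))
  refine ⟨(injective_iff_map_eq_zero _).2 fun x hx => ?_, fun y => ?_⟩
  · obtain ⟨a₀, rfl⟩ := exists_hδ_of_hmap_eq_zero hE (rfl : 0 + 1 = 1) x (@Subsingleton.elim _ hJX _ _)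
    obtain ⟨d₀, hd₀⟩ := exists_hmap_of_hδ_eq_zero hE' (rfl : 0 + 1 = 1) _ ((hδnat a₀).symm.trans hx)
    obtain ⟨a, rfl⟩ := (hofPush_zero_bijective p E.X₃).2 a₀
    obtain ⟨d', rfl⟩ := (toFibre_bijective h p hb pY w hbc E.X₂ hJ).2 d₀
    have h1 : hmap ((EtCoh.pull h).map c) 0 d' = EtCore.Hpull h _ 0 a :=
      (toFibre_bijective h p hb pY w hbc E.X₃ hQ).1
        (((toFibre_natural h p hb pY w E.g d').trans hd₀).trans (toFibre_Hpull h p hb pY w E.X₃ a).symm)
    have h2 : hmap d 0 a = 0 := hM.1 (by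
      rw [map_zero]
      refine (hnat d a).trans ?_
      rw [← h1]
      refine (hmap_comp _ _ 0 _).trans ?_
      rw [← Functor.map_comp, hcd, Functor.map_zero, hmap_zero_map])
    obtain ⟨a', rfl⟩ := eX a h2
    rw [GabberAff13.hofPush_hmap p E.g 0 a', hδ_hmap_g]
  · obtain ⟨b₀, rfl⟩ := exists_hδ_of_hmap_eq_zero hE' (rfl : 0 + 1 = 1) y (@Subsingleton.elim _ hJY _ _)
    obtain ⟨b, rfl⟩ := (toFibre_bijective h p hb pY w hbc E.X₃ hQ).2 b₀
    obtain ⟨s, hs⟩ := hM.2 (hmap ((EtCoh.pull h).map d) 0 b)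
    obtain ⟨a, rfl⟩ := sX s
    have hzero : hmap ((EtCoh.pull h).map d) 0 (EtCore.Hpull h _ 0 a - b) = 0 := by
      rw [map_sub, sub_eq_zero]
      exact (hnat d a).symm.trans hs
    obtain ⟨d', hd'⟩ := eY _ hzero
    refine ⟨hδ hE (rfl : 0 + 1 = 1) (EtLim.HofPush p E.X₃ 0 a), (hδnat _).trans ?_⟩
    have h3 := congrArg (fun t => hδ hE' (rfl : 0 + 1 = 1) (toFibre h p hb pY w E.X₃ t)) hd'
    erw [map_sub, map_sub] at h3
    rw [← toFibre_Hpull h p hb pY w]
    refine sub_eq_zero.1 (h3.symm.trans ?_)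
    refine (congrArg (hδ hE' (rfl : 0 + 1 = 1)) (toFibre_natural h p hb pY w E.g d')).trans ?_
    exact hδ_hmap_g hE' rfl _

include hbc hX hY in
/-- cohomology of the fibre when the higher direct images have the same sections -/
theorem bijective_Hpull_of_sections [CompactSpace Xb] [QuasiSeparatedSpace Xb] (q : ℕ) :
    ∀ F : EtCoh.Ab Xb, EtCoh.IsTorsion F → Function.Bijective (EtCore.Hpull h ((EtCoh.Rpush p q).obj F) 0) →
      Function.Bijective (EtCore.Hpull hb F q) := by
  haveI : EtCoh.BCCont p := EtCoh.bcCont p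
  haveI := EtFound.push_preservesFiniteLimits p
  induction q with
  | zero =>
    intro F hF hM
    exact EtBC.bij_zero h p hb pY w F (hbc F hF 0)
      (UnitStalk.Hpull_bijective_of_iso h ((EtCoh.push p).rightDerivedZeroIsoSelf.inv.app F) 0 hM)
  | succ q ih =>
    intro F hF hM
    obtain ⟨J, i, hi, hJt, hJ⟩ := EtBC.exists_mono_torsion_acyclic F ((BCCrit13.isLTorsion_univ_iff F).2 hF)
    haveI := hi
    have hJ' : EtCoh.IsTorsion J := (BCCrit13.isLTorsion_univ_iff J).1 hJt
    have hQ : EtCoh.IsTorsion (cokernel i) := BCCrit13.isTorsion_of_epi (cokernel.π i) hJ'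
    have hR : ∀ j, IsZero ((EtCoh.Rpush p (j + 1)).obj J) := fun j => EtBC.isZero_rpush_of_qcqsAcyclic p j J hJ
    have hJX : ∀ j, Subsingleton (EtCoh.H Xb J (j + 1)) := fun j =>
      QcqsAcyclic.subsingleton_H_of_isCechAcyclic j J hJ
    have hJY : ∀ j, Subsingleton (EtCoh.H Yb ((EtCoh.pull hb).obj J) (j + 1)) := fun j => by
      haveI : PreservesColimitsOfSize.{0, 0} (EtCoh.pull h) := (EtCoh.pullPushAdj h).leftAdjoint_preservesColimits
      haveI : (EtCoh.pull h).Additive := Functor.additive_of_preserves_binary_products _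
      have hR' : ∀ k, 1 ≤ k → k ≤ j + 1 → IsZero ((EtCoh.Rpush pY k).obj ((EtCoh.pull hb).obj J)) :=
        fun k hk _ => by
          obtain ⟨k, rfl⟩ : ∃ k', k = k' + 1 := ⟨k - 1, by omega⟩
          haveI := hbc J hJ' (k + 1)
          exact ((EtCoh.pull h).map_isZero (hR k)).of_iso (asIso (EtBC.bcQ p h pY hb w (k + 1) J)).symm
      exact (EtBC.subsingleton_H_push_iff pY _ (j + 1) hR' (j + 1) le_rfl).1 (hY _ j)
    obtain _ | q := q
    · exact bijective_Hpull_one h p hb pY w hbc hX hY i hF hJ' hQ (hR 0) (hJX 0) (hJY 0) hM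
    · let E := ShortComplex.mk i (cokernel.π i) (cokernel.condition i)
      have hE : E.ShortExact := { exact := ShortComplex.exact_of_g_is_cokernel _ (cokernelIsCokernel _) }
      let Δ := SESResLib.derivedLES (EtCoh.push p)
      haveI : IsIso (Δ.δ E hE (q + 1) (q + 2) rfl) := by
        haveI : Mono (Δ.δ E hE (q + 1) (q + 2) rfl) :=
          (Δ.exact₃ E hE (q + 1) (q + 2) rfl).mono_g ((hR q).eq_of_src _ _)
        haveI : Epi (Δ.δ E hE (q + 1) (q + 2) rfl) :=
          (Δ.exact₁ E hE (q + 1) (q + 2) rfl).epi_f ((hR (q + 1)).eq_of_tgt _ _)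
        exact isIso_of_mono_of_epi _
      have hMQ : Function.Bijective (EtCore.Hpull h ((EtCoh.Rpush p (q + 1)).obj E.X₃) 0) :=
        UnitStalk.Hpull_bijective_of_iso h (Δ.δ E hE (q + 1) (q + 2) rfl) 0 hM
      have bQ := ih (cokernel i) hQ hMQ
      have bJ : Function.Bijective (EtCore.Hpull hb J (q + 1)) :=
        ⟨fun z z' _ => @Subsingleton.elim _ (hJX q) z z', fun z => ⟨0, @Subsingleton.elim _ (hJY q) _ z⟩⟩
      exact ⟨EtBC.injective_Hpull_succ hb i (q + 1) (hJX (q + 1)) bJ bQ.1,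
        EtBC.surjective_Hpull_succ hb i (q + 1) (hJY (q + 1)) bQ.2⟩

end Groth.Agent.ProperLA12
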