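import Groth.Agent.EtFound.AbRecollement
import Groth.Agent.EtFound.JContGen
import Groth.Agent.EtLimit.HTools
import Groth.Agent.EtDev.Setup
import Groth.Agent.EtFound.AbLocEq
import Groth.Agent.EtLimit.SectFormula
import Groth.Agent.ProperLA12.GlobalFibre
import Groth.Agent.CdFin.Devissage
import Groth.Agent.S0073
import Mathlib.FieldTheory.PurelyInseparable.Basic
import Mathlib.AlgebraicGeometry.Morphisms.Finite

/-! sheaves supported on finitely many closed points with separably closed residue fields -/

set_option autoImplicit false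
set_option linter.style.haveILetI false
set_option maxHeartbeats 1000000
universe u

open CategoryTheory CategoryTheory.Limits AlgebraicGeometry Opposite CategoryTheory.Abelian

namespace Groth.Agent.ProperLA12

open Groth.Agent.EtLimit Groth.Agent.EtFound

set_option backward.isDefEq.respectTransparency.types false

theorem isSepClosed_residueField_of_isClosed {k : Type u} [Field k] [IsSepClosed k] {X : Scheme.{u}}
    (f : X ⟶ Spec (CommRingCat.of k)) [LocallyOfFiniteType f] (x : X) (hx : IsClosed ({x} : Set X)) :
    IsSepClosed (X.residueField x) := by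
  haveI : JacobsonSpace (Spec (CommRingCat.of k)) :=
    PrimeSpectrum.isJacobsonRing_iff_jacobsonSpace.1 inferInstance
  haveI : IsClosedImmersion (X.fromSpecResidueField x) := isClosed_singleton_iff_isClosedImmersion.1 hx
  haveI : IsFinite (X.fromSpecResidueField x ≫ f) :=
    isFinite_iff_locallyOfFiniteType_of_jacobsonSpace.2 inferInstance
  let φ := Spec.preimage (X.fromSpecResidueField x ≫ f)
  have hφ : φ.hom.Finite := by
    rw [← IsFinite.SpecMap_iff, Spec.map_preimage]
    infer_instance
  letI : Algebra k (X.residueField x) := φ.hom.toAlgebra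
  haveI : Module.Finite k (X.residueField x) := hφ
  exact Algebra.IsAlgebraic.isSepClosed (F := k) (E := X.residueField x)

theorem isZero_of_subsingleton_H_field (K : Type u) [Field K] [IsSepClosed K]
    (N : EtCoh.Ab (Spec (CommRingCat.of K))) (h : Subsingleton (EtCoh.H (Spec (CommRingCat.of K)) N 0)) : IsZero N := by
  have htop : Subsingleton (N.obj.obj (op (EtCoh.top (Spec (CommRingCat.of K))))) :=
    @Function.Surjective.subsingleton _ _ _ h (hSec_bijective N).2
  have hsec : ∀ (U : (Spec (CommRingCat.of K)).Etale) (s : N.obj.obj (op U)), s = 0 := fun U s => by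
    haveI : AlgebraicGeometry.Etale U.hom := U.prop
    refine AbLocEq.eq_of_aEq N fun z => ?_
    obtain ⟨l, hl, hl'⟩ := Scheme.exists_fac_of_etale_of_isSepClosed U.hom (𝟙 (Spec (CommRingCat.of K))) z
      (Subsingleton.elim (α := PrimeSpectrum K) _ _)
    exact ⟨EtCoh.top _, MorphismProperty.Over.homMk l hl, ⟨(default : Spec (CommRingCat.of K)), hl'⟩, @Subsingleton.elim _ htop _ _⟩
  rw [IsZero.iff_id_eq_zero]
  refine Sheaf.hom_ext (NatTrans.ext (funext fun U => AddCommGrpCat.ext fun s => ?_))
  exact (hsec U.unop s).trans (hsec U.unop _).symm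

variable {X : Scheme.{u}}

/-- no higher cohomology, and sections detect vanishing -/
def GlobalDetects (G : EtCoh.Ab X) : Prop :=
  (∀ q : ℕ, Subsingleton (EtCoh.H X G (q + 1))) ∧ (Subsingleton (EtCoh.H X G 0) → IsZero G)

theorem globalDetects_of_finite (Z : Finset X)
    (hZ : ∀ x ∈ Z, IsClosed ({x} : Set X)) (hsep : ∀ x ∈ Z, IsSepClosed (X.residueField x)) :
    ∀ (G : EtCoh.Ab X), (∀ (Ω : Type u) [Field Ω] [IsSepClosed Ω] (ξ : Spec (CommRingCat.of Ω) ⟶ X),
      ξ.base (default : Spec (CommRingCat.of Ω)) ∉ Z → IsZero ((EtCoh.stalk ξ).obj G)) → GlobalDetects G := by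
  classical
  induction Z using Finset.induction with
  | empty =>
    intro G hG
    have h0 : IsZero G := (isZero_iff_stalks G).2 fun Ω _ _ ξ => hG Ω ξ (Finset.notMem_empty _)
    exact ⟨fun q => CdFin.subsingleton_H_of_isZero h0 _, fun _ => h0⟩
  | @insert x Z hx ih =>
    intro G hG
    let i := X.fromSpecResidueField x
    haveI : IsClosedImmersion i := IsClosedImmersion.of_isPreimmersion _ (by
      rw [Scheme.range_fromSpecResidueField]; exact hZ x (Finset.mem_insert_self _ _))
    haveI : EtCoh.BCCont i := EtCoh.bcCont i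
    let U : X.Opens := ⟨{x}ᶜ, (hZ x (Finset.mem_insert_self _ _)).isOpen_compl⟩
    haveI := jCont U.ι
    haveI := hsep x (Finset.mem_insert_self _ _)
    have hU : Set.range U.ι.base = (Set.range i.base)ᶜ := by
      rw [Scheme.Opens.range_ι, Scheme.range_fromSpecResidueField]; rfl
    obtain ⟨w, hS⟩ := recollement_shortExact i U.ι hU G
    haveI := hS.mono_f
    have hj : GlobalDetects ((EtShriek.extZero U.ι).obj ((EtShriek.restrAlong U.ι).obj G)) := by
      refine ih (fun y hy => hZ y (Finset.mem_insert_of_mem hy)) (fun y hy => hsep y (Finset.mem_insert_of_mem hy)) _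
        fun Ω _ _ ξ hξ => ?_
      by_cases hξx : ξ.base (default : Spec (CommRingCat.of Ω)) = x
      · exact isZero_stalk_extZero U.ι ξ (by rw [Scheme.Opens.range_ι]; exact fun h => h hξx) _
      · exact IsZero.of_mono ((EtCoh.stalk ξ).map ((EtShriek.extZeroAdj U.ι).counit.app G)) (hG Ω ξ (by
          simp only [Finset.mem_insert, not_or]
          exact ⟨hξx, hξ⟩))
    let N := (EtCoh.pull i).obj G
    haveI : IsSepClosed (IsLocalRing.ResidueField (X.residueField x)) :=
      Hensel.isSepClosed_of_ringEquiv (k := X.residueField x)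
        (RingEquiv.ofBijective (IsLocalRing.residue (X.residueField x))
          ⟨(IsLocalRing.residue (X.residueField x)).injective, IsLocalRing.residue_surjective⟩)
    have hpush : ∀ q, Subsingleton (EtCoh.H X ((EtCoh.push i).obj N) (q + 1)) := fun q =>
      EtDev.subsingleton_H_push_finite i N (q + 1)
        (S0073.result (X.residueField x) (show EtCoh.Ab (Spec (CommRingCat.of (X.residueField x))) from N)
          (q + 1) (by omega))
    have hGH : ∀ q, Subsingleton (EtCoh.H X G (q + 1)) := fun q => by
      refine subsingleton_of_forall_eq 0 fun a => ?_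
      obtain ⟨b, rfl⟩ := exists_hmap_of_hmap_eq_zero hS (q + 1) a (@Subsingleton.elim _ (hpush q) _ _)
      have hb : b = 0 := @Subsingleton.elim _ (hj.1 q) _ _
      rw [hb, map_zero]
    refine ⟨hGH, fun h0 => ?_⟩
    have hp0 : Subsingleton (EtCoh.H X ((EtCoh.push i).obj N) 0) := by
      refine subsingleton_of_forall_eq 0 fun a => ?_
      obtain ⟨b, rfl⟩ := exists_hmap_of_hδ_eq_zero hS (rfl : 0 + 1 = 1) a (@Subsingleton.elim _ (hj.1 0) _ _)
      have hb : b = 0 := @Subsingleton.elim _ h0 _ _
      rw [hb, map_zero]
    have hj0 : IsZero ((EtShriek.extZero U.ι).obj ((EtShriek.restrAlong U.ι).obj G)) := hj.2 (by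
      refine subsingleton_of_forall_eq 0 fun a => hmap_zero_injective ((EtShriek.extZeroAdj U.ι).counit.app G) ?_
      exact @Subsingleton.elim _ h0 _ _)
    have hN : IsZero ((EtCoh.push i).obj N) := by
      haveI := EtFound.pull_preservesFiniteLimits i
      haveI : (EtCoh.push i).Additive := (EtCoh.pullPushAdj i).right_adjoint_additive
      exact (EtCoh.push i).map_isZero (isZero_of_subsingleton_H_field (X.residueField x) N
        (@Function.Surjective.subsingleton _ _ _ hp0 (hofPush_zero_bijective i N).2))
    exact hS.exact.isZero_of_both_zeros (hj0.eq_of_src _ _) (hN.eq_of_tgt _ _)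

end Groth.Agent.ProperLA12
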