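import Groth.Agent.AcycBase.EdgeExt

/-! vanishing of higher direct images without positive extension groups from bijective edge maps -/

universe w v u

open CategoryTheory CategoryTheory.Limits CategoryTheory.Abelian

namespace Groth.Agent.ProperLA12

open Groth.Agent.EtFound Groth.Agent.AcycBase

set_option autoImplicit false
set_option linter.style.haveILetI false
set_option backward.isDefEq.respectTransparency.types false
set_option maxHeartbeats 400000

variable {A : Type u} [Category.{v} A] [Abelian A] [HasExt.{w} A] [EnoughInjectives A]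
  {B : Type*} [Category* B] [Abelian B] [HasExt.{w} B] [EnoughInjectives B]
  {L : B ⥤ A} {R : A ⥤ B} (adj : L ⊣ R) [L.Additive] [PreservesFiniteLimits L] [PreservesFiniteColimits L]
  [R.Additive] [PreservesFiniteLimits R]

theorem extClass_bijective {C : ShortComplex A} (hC : C.ShortExact) [Injective C.X₂] (P : A) (q : ℕ) :
    Function.Bijective
      (fun x : Ext P C.X₃ (q + 1) => x.comp hC.extClass (rfl : q + 1 + 1 = q + 1 + 1)) := by
  refine ⟨fun x y hxy => sub_eq_zero.1 ?_, fun y =>
    Ext.covariant_sequence_exact₁ P hC y (Ext.eq_zero_of_injective _) rfl⟩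
  have h0 : (x - y).comp hC.extClass (rfl : q + 1 + 1 = q + 1 + 1) = 0 := by
    rw [sub_eq_add_neg, Ext.add_comp, Ext.neg_comp, ← sub_eq_add_neg, sub_eq_zero]
    exact hxy
  obtain ⟨w, hw⟩ := Ext.covariant_sequence_exact₃ P hC (x - y) rfl h0
  rw [← hw, Ext.eq_zero_of_injective w, Ext.zero_comp]

/-- bijective edge maps force the higher derived images without positive extensions to have no extensions -/
theorem allExtZero_of_edge_bijective (P : B) (n : ℕ) (G : A)
    (hE : ∀ q, q ≤ n + 1 → Function.Bijective (edge adj P G q))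
    (hS : ∀ q, 1 ≤ q → q ≤ n → ∀ p, Subsingleton (Ext.{w} P ((R.rightDerived q).obj G) (p + 1))) :
    ∀ q, 1 ≤ q → q ≤ n → AllExtZero.{w} P ((R.rightDerived q).obj G) := by
  induction n generalizing G with
  | zero => intro q h1 h2; omega
  | succ n ih =>
    obtain ⟨S, hS', hI, rfl⟩ : ∃ S : ShortComplex A, S.ShortExact ∧ Injective S.X₂ ∧ S.X₁ = G :=
      ⟨EtMVLib.injSES G, EtMVLib.injSES_shortExact G, inferInstanceAs (Injective (Injective.under G)), rfl⟩
    haveI := hS'.mono_f
    let Δ := SESResLib.derivedLES R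
    let T : ShortComplex B := ShortComplex.mk (R.map S.f) (cokernel.π (R.map S.f)) (cokernel.condition _)
    have hT : T.ShortExact :=
      { exact := ShortComplex.exact_of_g_is_cokernel _ (cokernelIsCokernel _)
        mono_f := inferInstanceAs (Mono (R.map S.f)) }
    haveI : Injective T.X₂ := Injective.injective_of_adjoint adj _
    let c : T.X₃ ⟶ R.obj S.X₃ := cokernel.desc _ (R.map S.g) (by rw [← R.map_comp, S.zero, R.map_zero])
    haveI : Mono c := by
      refine Preadditive.mono_of_cancel_zero _ fun {Y} g hg => ?_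
      obtain ⟨Y', π, hπ, a, ha⟩ := surjective_up_to_refinements_of_epi (cokernel.π (R.map S.f)) g
      have h0 : a ≫ R.map S.g = 0 := by
        have : a ≫ cokernel.π (R.map S.f) ≫ c = 0 := by rw [← Category.assoc, ← ha, Category.assoc, hg, comp_zero]
        simpa [c] using this
      haveI : Mono (S.map R).f := inferInstanceAs (Mono (R.map S.f))
      obtain ⟨b, hb⟩ : ∃ b : Y' ⟶ R.obj S.X₁, b ≫ R.map S.f = a :=
        ⟨_, (KernelFork.IsLimit.lift'
          ((hS'.exact.map_of_mono_of_preservesKernel R inferInstance inferInstance).fIsKernel) a h0).2⟩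
      rw [← cancel_epi π, comp_zero, ha]
      rw [← hb, Category.assoc, cokernel.condition, comp_zero]
    let δ : R.obj S.X₃ ⟶ (R.rightDerived 1).obj S.X₁ :=
      R.rightDerivedZeroIsoSelf.inv.app S.X₃ ≫ Δ.δ S hS' 0 1 rfl
    have hz : R.map S.g ≫ δ = 0 := by
      show R.map S.g ≫ R.rightDerivedZeroIsoSelf.inv.app S.X₃ ≫ Δ.δ S hS' 0 1 rfl = 0
      rw [← Category.assoc, R.rightDerivedZeroIsoSelf.inv.naturality S.g, Category.assoc]
      exact (congrArg (R.rightDerivedZeroIsoSelf.inv.app S.X₂ ≫ ·) (Δ.comp_δ S hS' 0 1 rfl)).trans comp_zero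
    have hex : (ShortComplex.mk (R.map S.g) δ hz).Exact :=
      ShortComplex.exact_of_iso (by
        refine ShortComplex.isoMk (R.rightDerivedZeroIsoSelf.app S.X₂) (R.rightDerivedZeroIsoSelf.app S.X₃)
          (Iso.refl _) (R.rightDerivedZeroIsoSelf.hom.naturality S.g).symm ?_
        exact (Iso.hom_inv_id_app_assoc R.rightDerivedZeroIsoSelf S.X₃ _).trans (Category.comp_id _).symm)
        (Δ.exact₃ S hS' 0 1 rfl)
    have hcz : c ≫ δ = 0 := by
      rw [← cancel_epi (cokernel.π (R.map S.f)), ← Category.assoc, cokernel.π_desc, comp_zero]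
      exact hz
    have hcex : (ShortComplex.mk c δ hcz).Exact := by
      let φ : ShortComplex.mk (R.map S.g) δ hz ⟶ ShortComplex.mk c δ hcz :=
        { τ₁ := cokernel.π (R.map S.f)
          τ₂ := 𝟙 _
          τ₃ := 𝟙 _
          comm₁₂ := (cokernel.π_desc _ _ _).trans (Category.comp_id _).symm
          comm₂₃ := (Category.id_comp _).trans (Category.comp_id _).symm }
      haveI : Epi φ.τ₁ := inferInstanceAs (Epi (cokernel.π (R.map S.f)))
      exact (ShortComplex.exact_iff_of_epi_of_isIso_of_mono φ).1 hex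
    haveI : Epi (Δ.δ S hS' 0 1 rfl) :=
      (Δ.exact₁ S hS' 0 1 rfl).epi_f ((R.isZero_rightDerived_obj_injective_succ 0 S.X₂).eq_of_tgt _ _)
    haveI : Epi δ := epi_comp _ _
    have hC : (ShortComplex.mk c δ hcz).ShortExact :=
      { exact := hcex, mono_f := inferInstanceAs (Mono c), epi_g := inferInstanceAs (Epi δ) }
    let φ : T.map L ⟶ S :=
      { τ₁ := adj.counit.app S.X₁
        τ₂ := adj.counit.app S.X₂
        τ₃ := (adj.homEquiv _ _).symm c
        comm₁₂ := (adj.counit.naturality S.f).symm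
        comm₂₃ := by
          change adj.counit.app S.X₂ ≫ S.g = L.map (cokernel.π (R.map S.f)) ≫ (adj.homEquiv _ _).symm c
          rw [← adj.homEquiv_naturality_left_symm, cokernel.π_desc, Adjunction.homEquiv_counit]
          exact (adj.counit.naturality S.g).symm }
    have hedge : ∀ {q : ℕ} (z : Ext P T.X₃ q), edge adj P S.X₁ (q + 1) (z.comp hT.extClass rfl) =
        (edge adj P S.X₃ q (z.comp (Ext.mk₀ c) (add_zero q))).comp hS'.extClass rfl := fun {q} z => by
      refine (mapExt_extClass_natural hT hS' φ z).trans ?_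
      refine congrArg (fun t : Ext (L.obj P) S.X₃ q => t.comp hS'.extClass (rfl : q + 1 = q + 1)) ?_
      rw [edge_apply, Ext.mapExactFunctor_comp, Ext.mapExactFunctor_mk₀, Ext.comp_assoc_of_third_deg_zero,
        Ext.mk₀_comp_mk₀]
      exact congrArg (fun k : L.obj T.X₃ ⟶ S.X₃ => (z.mapExactFunctor L).comp (Ext.mk₀ k) (add_zero q))
        (adj.homEquiv_counit _ _ c)
    -- no homomorphisms to the first derived image
    have h10 : Subsingleton (Ext P ((R.rightDerived 1).obj S.X₁) 0) := by
      refine subsingleton_of_forall_eq 0 fun h => ?_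
      have he : h.comp hC.extClass (rfl : 0 + 1 = 0 + 1) = 0 := by
        set x' := h.comp hC.extClass (rfl : 0 + 1 = 0 + 1) with hx'
        have h0 : x'.comp (Ext.mk₀ c) (add_zero 1) = 0 := by
          rw [hx', Ext.comp_assoc_of_third_deg_zero, ShortComplex.ShortExact.extClass_comp, Ext.comp_zero]
        have h1 : edge adj P S.X₁ 2 (x'.comp hT.extClass (rfl : 1 + 1 = 2)) = 0 := by
          rw [hedge x', h0, map_zero, Ext.zero_comp]
        have h2 := (injective_iff_map_eq_zero _).1 (hE 2 (by omega)).1 _ h1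
        obtain ⟨w, hw⟩ := Ext.covariant_sequence_exact₃ P hT x' (rfl : 1 + 1 = 2) h2
        rw [← hw, Ext.eq_zero_of_injective w, Ext.zero_comp]
      obtain ⟨z, rfl⟩ := Ext.covariant_sequence_exact₃ P hC h (rfl : 0 + 1 = 0 + 1) he
      suffices hz' : ∃ t : Ext P T.X₃ 0, t.comp (Ext.mk₀ c) (add_zero 0) = z by
        obtain ⟨t, rfl⟩ := hz'
        refine (Ext.comp_assoc_of_third_deg_zero _ _ _ _).trans ?_
        rw [Ext.mk₀_comp_mk₀]
        exact (congrArg (fun k => t.comp (Ext.mk₀ k) (add_zero 0)) hcz).trans (by rw [Ext.mk₀_zero, Ext.comp_zero])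
      obtain ⟨x, hx⟩ := (hE 1 (by omega)).2 ((edge adj P (S.X₃) 0 z).comp hS'.extClass (rfl : 0 + 1 = 1))
      obtain ⟨t₀, rfl⟩ := Ext.covariant_sequence_exact₁ P hT x (Ext.eq_zero_of_injective _) (rfl : 0 + 1 = 1)
      have h3 : (edge adj P S.X₃ 0 (z - t₀.comp (Ext.mk₀ c) (add_zero 0))).comp hS'.extClass
          (rfl : 0 + 1 = 1) = 0 := by
        rw [map_sub, sub_eq_add_neg, Ext.add_comp, Ext.neg_comp, ← sub_eq_add_neg, sub_eq_zero]
        exact hx.symm.trans (hedge t₀)
      obtain ⟨v, hv⟩ := Ext.covariant_sequence_exact₃ (L.obj P) hS' _ (rfl : 0 + 1 = 1) h3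
      obtain ⟨v', rfl⟩ := (edge_zero_bijective adj P S.X₂).2 v
      rw [← edge_mapExt] at hv
      refine ⟨t₀ + v'.comp (Ext.mk₀ T.g) (add_zero 0), ?_⟩
      rw [Ext.add_comp, Ext.comp_assoc_of_third_deg_zero v', Ext.mk₀_comp_mk₀]
      have hcg : T.g ≫ c = R.map S.g := cokernel.π_desc _ _ _
      rw [hcg, (edge_zero_bijective adj P S.X₃).1 hv, add_sub_cancel]
    have hz1 : AllExtZero.{w} P ((R.rightDerived 1).obj S.X₁) := fun q => by
      obtain _ | p := q
      · exact h10
      · exact hS 1 le_rfl (by omega) p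
    have hc := fun q => postcomp_bijective_of_allExtZero hC P hz1 q
    have hE₃ : ∀ q, q ≤ n + 1 → Function.Bijective (edge adj P S.X₃ q) := by
      intro q hq
      obtain _ | q := q
      · exact edge_zero_bijective adj P _
      refine (Function.Bijective.of_comp_iff' (extClass_bijective hS' (L.obj P) q) _).1 ?_
      refine (Function.Bijective.of_comp_iff _ (hc (q + 1))).1 ?_
      have e : ((fun x : Ext (L.obj P) S.X₃ (q + 1) => x.comp hS'.extClass rfl) ∘ edge adj P S.X₃ (q + 1)) ∘
          (fun z : Ext P T.X₃ (q + 1) => z.comp (Ext.mk₀ c) (add_zero (q + 1))) =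
          edge adj P S.X₁ (q + 2) ∘ fun z : Ext P T.X₃ (q + 1) => z.comp hT.extClass rfl :=
        funext fun z => (hedge z).symm
      rw [e]
      exact (hE (q + 2) (by omega)).comp (extClass_bijective hT P q)
    have hiso : ∀ q, IsIso (Δ.δ S hS' (q + 1) (q + 2) rfl) := fun q => by
      haveI : Mono (Δ.δ S hS' (q + 1) (q + 2) rfl) := (Δ.exact₃ S hS' (q + 1) (q + 2) rfl).mono_g
        ((R.isZero_rightDerived_obj_injective_succ q S.X₂).eq_of_src _ _)
      haveI : Epi (Δ.δ S hS' (q + 1) (q + 2) rfl) := (Δ.exact₁ S hS' (q + 1) (q + 2) rfl).epi_f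
        ((R.isZero_rightDerived_obj_injective_succ (q + 1) S.X₂).eq_of_tgt _ _)
      exact isIso_of_mono_of_epi _
    have hS₃ : ∀ q, 1 ≤ q → q ≤ n → ∀ p, Subsingleton (Ext P ((R.rightDerived q).obj S.X₃) (p + 1)) := by
      intro q hq hqn p
      obtain ⟨q, rfl⟩ : ∃ q', q = q' + 1 := ⟨q - 1, by omega⟩
      haveI := hiso q
      haveI := hS (q + 2) (by omega) (by omega) p
      exact (postcomp_bijective (Δ.δ S hS' (q + 1) (q + 2) rfl) (p + 1)).1.subsingleton
    intro q hq hqn
    obtain ⟨q, rfl⟩ : ∃ q', q = q' + 1 := ⟨q - 1, by omega⟩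
    obtain _ | q := q
    · exact hz1
    · haveI := hiso q
      exact allExtZero_of_iso (asIso (Δ.δ S hS' (q + 1) (q + 2) rfl))
        (ih S.X₃ hE₃ hS₃ (q + 1) (by omega) (by omega))

end Groth.Agent.ProperLA12
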