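import Groth.Agent.ProperLA12.GlobalFibre
import Groth.Agent.ProperLA12.Skyscraper
import Groth.Agent.ProperLA12.EdgeConv
import Groth.Agent.AcycBase.ProperFibre
import Groth.Agent.GabberAff13.BcIso

/-!
# The unit of a geometric fibre on the closed fibre of a proper scheme over a strictly local base
-/

set_option autoImplicit false
set_option linter.style.haveILetI false
set_option linter.unusedSectionVars false
set_option maxHeartbeats 1000000
universe u

open CategoryTheory CategoryTheory.Limits AlgebraicGeometry Opposite IsLocalRing CategoryTheory.Abelian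

namespace Groth.Agent.ProperLA12

open Groth.Agent.EtLimit Groth.Agent.EtFound Groth.Agent.EtBC Groth.Agent.AcycBase

set_option backward.isDefEq.respectTransparency.types false

/-- a map bijective away from finitely many closed points with bijective global sections and injective degree one
classes is an isomorphism -/
theorem isIso_of_stalks_outside {X : Scheme.{u}} (Z : Finset X) (hZ : ∀ x ∈ Z, IsClosed ({x} : Set X))
    (hsep : ∀ x ∈ Z, IsSepClosed (X.residueField x)) {A B : EtCoh.Ab X} (φ : A ⟶ B)
    (hst : ∀ (Ω : Type u) [Field Ω] [IsSepClosed Ω] (ξ : Spec (CommRingCat.of Ω) ⟶ X),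
      ξ.base (default : Spec (CommRingCat.of Ω)) ∉ Z → IsIso ((EtCoh.stalk ξ).map φ))
    (h0 : Function.Bijective (hmap φ 0)) (h1 : Function.Injective (hmap φ 1)) : IsIso φ := by
  have hK : IsZero (kernel φ) := by
    refine (globalDetects_of_finite Z hZ hsep (kernel φ) fun Ω _ _ ξ hξ => ?_).2 ?_
    · haveI := hst Ω ξ hξ
      haveI : Mono ((EtCoh.stalk ξ).map (kernel.ι φ)) := inferInstance
      refine IsZero.of_mono_eq_zero ((EtCoh.stalk ξ).map (kernel.ι φ)) ?_
      rw [← cancel_mono ((EtCoh.stalk ξ).map φ), zero_comp, ← Functor.map_comp, kernel.condition]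
      haveI : (EtCoh.stalk ξ).Additive := Functor.additive_of_preserves_binary_products _
      exact Functor.map_zero _ _ _
    · refine subsingleton_of_forall_eq 0 fun a => hmap_zero_injective (kernel.ι φ) ?_
      rw [map_zero]
      refine h0.1 ?_
      rw [map_zero, hmap_comp, kernel.condition, hmap_zero_map]
  haveI : Mono φ := Preadditive.mono_of_kernel_zero (hK.eq_of_src _ _)
  let S : ShortComplex (EtCoh.Ab X) := ShortComplex.mk φ (cokernel.π φ) (cokernel.condition φ)
  have hS : S.ShortExact :=
    { exact := ShortComplex.exact_of_g_is_cokernel _ (cokernelIsCokernel φ)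
      mono_f := inferInstanceAs (Mono φ)
      epi_g := inferInstanceAs (Epi (cokernel.π φ)) }
  have hC : IsZero (cokernel φ) := by
    refine (globalDetects_of_finite Z hZ hsep (cokernel φ) fun Ω _ _ ξ hξ => ?_).2 ?_
    · haveI := hst Ω ξ hξ
      haveI : Epi ((EtCoh.stalk ξ).map (cokernel.π φ)) := inferInstance
      refine IsZero.of_epi_eq_zero ((EtCoh.stalk ξ).map (cokernel.π φ)) ?_
      rw [← cancel_epi ((EtCoh.stalk ξ).map φ), comp_zero, ← Functor.map_comp, cokernel.condition]
      haveI : (EtCoh.stalk ξ).Additive := Functor.additive_of_preserves_binary_products _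
      exact Functor.map_zero _ _ _
    · refine subsingleton_of_forall_eq 0 fun c => ?_
      have hc : hδ hS (rfl : 0 + 1 = 1) c = 0 := h1 (by
        rw [map_zero]
        show Ext.comp (Ext.comp c hS.extClass rfl) (Ext.mk₀ S.f) (add_zero 1) = 0
        rw [Ext.comp_assoc_of_third_deg_zero, ShortComplex.ShortExact.extClass_comp, Ext.comp_zero])
      obtain ⟨b, rfl⟩ := exists_hmap_of_hδ_eq_zero hS (rfl : 0 + 1 = 1) c hc
      obtain ⟨a, rfl⟩ := h0.2 b
      show hmap (cokernel.π φ) 0 (hmap φ 0 a) = 0
      rw [hmap_comp, cokernel.condition, hmap_zero_map]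
  haveI : Epi φ := Preadditive.epi_of_cokernel_zero (hC.eq_of_tgt _ _)
  exact isIso_of_mono_of_epi φ

variable {RS : Type u} [CommRing RS] [HenselianLocalRing RS] [IsSepClosed (ResidueField RS)] {X : Scheme.{u}}
  (f : X ⟶ Spec (CommRingCat.of RS)) [IsProper f] (F : EtCoh.Ab X) (hF : EtCoh.IsTorsion F)
  (hM : ∀ q : ℕ, ∃ A : AddCommGrpCat.{u + 1}, Nonempty ((constantSheaf (Spec (CommRingCat.of RS)).smallEtaleTopology
    AddCommGrpCat.{u + 1}).obj A ≅ (EtCoh.Rpush f q).obj F))
  {Ω : Type u} [Field Ω] [IsSepClosed Ω] (τ : RS →+* Ω)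

include hF hM in
/-- cohomology of a geometric fibre -/
theorem bijective_Hpull_geom [PreservesFiniteLimits (EtCoh.pull (pullback.fst f (Spec.map (CommRingCat.ofHom τ))))]
    (q : ℕ) : Function.Bijective (EtCore.Hpull (pullback.fst f (Spec.map (CommRingCat.ofHom τ))) F q) := by
  let t := Spec.map (CommRingCat.ofHom τ)
  haveI : PreservesFiniteLimits (EtCoh.pull t) := pull_preservesFiniteLimits _
  haveI : PreservesFiniteLimits (EtCoh.pull f) := pull_preservesFiniteLimits _
  haveI : PreservesFiniteLimits (EtCoh.pull (pullback.snd f t)) := pull_preservesFiniteLimits _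
  haveI : CompactSpace X := QuasiCompact.compactSpace_of_compactSpace f
  haveI : QuasiSeparatedSpace X := quasiSeparatedSpace_of_quasiSeparated f
  haveI : IsSepClosed (ResidueField Ω) :=
    Hensel.isSepClosed_of_ringEquiv (k := Ω) (RingEquiv.ofBijective (residue Ω)
      ⟨(residue Ω).injective, residue_surjective⟩)
  refine bijective_Hpull_of_sections t f (pullback.fst f t) (pullback.snd f t) pullback.condition
    (fun G hG i => GabberAff13.isIso_bcQ f t (pullback.snd f t) (pullback.fst f t)
      (IsPullback.of_hasPullback f t) i G hG)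
    (fun G i => S0073.result RS G (i + 1) (by omega)) (fun G i => S0073.result Ω G (i + 1) (by omega)) q F hF ?_
  obtain ⟨A, ⟨e⟩⟩ := hM q
  haveI : ConnectedSpace (Spec (CommRingCat.of Ω)) := GenAcyc.connectedSpace_specLocal Ω
  haveI : ConnectedSpace (Spec (CommRingCat.of RS)) := GenAcyc.connectedSpace_specLocal RS
  exact UnitStalk.Hpull_bijective_of_iso t e.inv 0 (GenAcyc.const_Hpull_zero_bijective t A)

set_option maxHeartbeats 2000000 in
include hF hM in
/-- away from finitely many closed points of the closed fibre is enough -/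
theorem unit_closedFibre_of_outside
    [PreservesFiniteLimits (EtCoh.pull (pullback.fst f (Spec.map (CommRingCat.ofHom τ))))]
    (Z : Finset ↥(pullback f (Spec.map (CommRingCat.ofHom (residue RS)))))
    (hZ : ∀ x ∈ Z, IsClosed ({x} : Set ↥(pullback f (Spec.map (CommRingCat.ofHom (residue RS))))))
    (hsep : ∀ x ∈ Z, IsSepClosed ((pullback f (Spec.map (CommRingCat.ofHom (residue RS)))).residueField x))
    (hout : ∀ (K : Type u) [Field K] [IsSepClosed K]
      (ξ : Spec (CommRingCat.of K) ⟶ pullback f (Spec.map (CommRingCat.ofHom (residue RS)))),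
      ξ.base (default : Spec (CommRingCat.of K)) ∉ Z →
      IsIso ((EtCoh.stalk ξ).map ((EtCoh.pull (pullback.fst f (Spec.map (CommRingCat.ofHom (residue RS))))).map
        ((EtCoh.pullPushAdj (pullback.fst f (Spec.map (CommRingCat.ofHom τ)))).unit.app F))) ∧
      ∀ q : ℕ, 0 < q → IsZero ((EtCoh.stalk ξ).obj
        ((EtCoh.pull (pullback.fst f (Spec.map (CommRingCat.ofHom (residue RS))))).obj
          ((EtCoh.Rpush (pullback.fst f (Spec.map (CommRingCat.ofHom τ))) q).obj
            ((EtCoh.pull (pullback.fst f (Spec.map (CommRingCat.ofHom τ)))).obj F))))) :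
    IsIso ((EtCoh.pull (pullback.fst f (Spec.map (CommRingCat.ofHom (residue RS))))).map
        ((EtCoh.pullPushAdj (pullback.fst f (Spec.map (CommRingCat.ofHom τ)))).unit.app F)) ∧
      ∀ q : ℕ, 0 < q → IsZero ((EtCoh.pull (pullback.fst f (Spec.map (CommRingCat.ofHom (residue RS))))).obj
          ((EtCoh.Rpush (pullback.fst f (Spec.map (CommRingCat.ofHom τ))) q).obj
            ((EtCoh.pull (pullback.fst f (Spec.map (CommRingCat.ofHom τ)))).obj F))) := by
  let h := pullback.fst f (Spec.map (CommRingCat.ofHom τ))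
  haveI : QuasiCompact h := MorphismProperty.pullback_fst _ _ inferInstance
  haveI : QuasiSeparated h := MorphismProperty.pullback_fst _ _ inferInstance
  let s := Spec.map (CommRingCat.ofHom (residue RS))
  let i₀ := pullback.fst f s
  haveI : PreservesFiniteLimits (EtCoh.pull i₀) := pull_preservesFiniteLimits _
  haveI := EtFound.push_preservesFiniteLimits h
  haveI : EtCoh.BCCont h := EtCoh.bcCont h
  let η := (EtCoh.pullPushAdj h).unit.app F
  let φ := (EtCoh.pull i₀).map η
  have hFL : EtAcyc.IsLTorsion Set.univ F := (BCCrit13.isLTorsion_univ_iff F).2 hF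
  have hFh : EtAcyc.IsLTorsion Set.univ ((EtCoh.pull h).obj F) := isLTorsion_pull h _ hFL
  have htorR : ∀ q, EtCoh.IsTorsion ((EtCoh.Rpush h q).obj ((EtCoh.pull h).obj F)) := fun q =>
    (BCCrit13.isLTorsion_univ_iff _).1 (S8560.result h Set.univ _ hFh q)
  have htor : EtCoh.IsTorsion ((EtCoh.push h).obj ((EtCoh.pull h).obj F)) :=
    (BCCrit13.isLTorsion_univ_iff _).1
      (isLTorsion_of_iso ((EtCoh.push h).rightDerivedZeroIsoSelf.app _) (S8560.result h Set.univ _ hFh 0))
  have b1 := fun q => GabberAff13.bijective_Hpull_closedFibre RS f F hF q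
  have b2 := fun q => GabberAff13.bijective_Hpull_closedFibre RS f _ htor q
  have hfun : ∀ q, (EtCore.Hpull h F q : _ → _) =
      ((fun z => (Ext.mk₀ (EtCore.pullConst h ℤ).inv).comp z (zero_add q)) ∘
        EtFound.edge (EtCoh.pullPushAdj h) (EtCoh.const X ℤ) ((EtCoh.pull h).obj F) q) ∘
          fun x => x.comp (Ext.mk₀ η) (add_zero q) := fun q => funext fun x => by
    show (Ext.mk₀ (EtCore.pullConst h ℤ).inv).comp (x.mapExactFunctor (EtCoh.pull h)) (zero_add q) =
      (Ext.mk₀ (EtCore.pullConst h ℤ).inv).comp (EtFound.edge _ _ _ q _) (zero_add q)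
    rw [EtFound.edge_apply, Ext.mapExactFunctor_comp, Ext.mapExactFunctor_mk₀,
      Ext.comp_assoc_of_third_deg_zero, Ext.mk₀_comp_mk₀]
    erw [Adjunction.left_triangle_components]
    rw [Ext.comp_mk₀_id]
  have hpre : ∀ q, Function.Bijective (fun z : Ext.{u + 1} ((EtCoh.pull h).obj (EtCoh.const X ℤ))
      ((EtCoh.pull h).obj F) q => (Ext.mk₀ (EtCore.pullConst h ℤ).inv).comp z (zero_add q)) :=
    fun q => EtFound.precomp_bijective _ _
  have hg : ∀ q, Function.Bijective (EtCore.Hpull h F q) := bijective_Hpull_geom f F hF hM τ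
  have hηinj : ∀ q, Function.Injective (hmap η q) := fun q => by
    have := (hg q).1
    rw [hfun q] at this
    exact this.of_comp
  have hη0 : Function.Bijective (hmap η 0) := by
    have := hg 0
    rw [hfun 0] at this
    exact (Function.Bijective.of_comp_iff' ((hpre 0).comp (EtFound.edge_zero_bijective _ _ _)) _).1 this
  have esq : ∀ q, EtCore.Hpull i₀ ((EtCoh.push h).obj ((EtCoh.pull h).obj F)) q ∘ hmap η q =
      hmap φ q ∘ EtCore.Hpull i₀ F q := fun q => funext fun z => CohCrit13.Hpull_hmap i₀ η q z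
  have hφ0 : Function.Bijective (hmap φ 0) :=
    (Function.Bijective.of_comp_iff _ (b1 0)).1 (esq 0 ▸ (b2 0).comp hη0)
  have hφ1 : Function.Injective (hmap φ 1) := fun a b hab => by
    obtain ⟨a', rfl⟩ := (b1 1).2 a
    obtain ⟨b', rfl⟩ := (b1 1).2 b
    exact congrArg _ (hηinj 1 ((b2 1).1 ((congrFun (esq 1) a').trans (hab.trans (congrFun (esq 1) b').symm))))
  have hiso : IsIso φ := isIso_of_stalks_outside Z hZ hsep φ (fun K _ _ ξ hξ => (hout K ξ hξ).1) hφ0 hφ1
  refine ⟨hiso, ?_⟩
  have hηb : ∀ q, Function.Bijective (hmap η q) := fun q => by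
    haveI := hiso
    refine (Function.Bijective.of_comp_iff' (b2 q) _).1 ?_
    rw [esq q]
    exact (EtBC.hmap_bijective φ q).comp (b1 q)
  have hedge : ∀ q, Function.Bijective
      (EtFound.edge (EtCoh.pullPushAdj h) (EtCoh.const X ℤ) ((EtCoh.pull h).obj F) q) := fun q => by
    have := hg q
    rw [hfun q] at this
    exact (Function.Bijective.of_comp_iff' (hpre q) _).1 ((Function.Bijective.of_comp_iff _ (hηb q)).1 this)
  intro q hq
  have hD : ∀ k, 0 < k → GlobalDetects ((EtCoh.pull i₀).obj ((EtCoh.Rpush h k).obj ((EtCoh.pull h).obj F))) :=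
    fun k hk => globalDetects_of_finite Z hZ hsep _ fun K _ _ ξ hξ => (hout K ξ hξ).2 k hk
  haveI : PreservesColimitsOfSize.{0, 0} (EtCoh.pull h) := (EtCoh.pullPushAdj h).leftAdjoint_preservesColimits
  haveI : PreservesFiniteColimits (EtCoh.pull h) := PreservesColimitsOfSize.preservesFiniteColimits _
  haveI : (EtCoh.pull h).Additive := Functor.additive_of_preserves_binary_products _
  haveI : (EtCoh.push h).Additive := Functor.additive_of_preserves_binary_products _
  have hall := allExtZero_of_edge_bijective (EtCoh.pullPushAdj h) (EtCoh.const X ℤ) q ((EtCoh.pull h).obj F)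
    (fun k _ => hedge k) (fun k hk _ p => by
      haveI : Subsingleton (EtCoh.H (pullback f s)
          ((EtCoh.pull i₀).obj ((EtCoh.Rpush h k).obj ((EtCoh.pull h).obj F))) (p + 1)) := (hD k hk).1 p
      exact (GabberAff13.bijective_Hpull_closedFibre RS f _ (htorR k) (p + 1)).1.subsingleton)
    q hq le_rfl
  haveI : Subsingleton (EtCoh.H X ((EtCoh.Rpush h q).obj ((EtCoh.pull h).obj F)) 0) := hall 0
  exact (hD q hq).2 (GabberAff13.bijective_Hpull_closedFibre RS f _ (htorR q) 0).2.subsingleton

end Groth.Agent.ProperLA12
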