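import Groth.Agent.UnitStalk.Fibre

/-!
# Local acyclicity from the stalks of the unit on the closed fibre
-/

set_option autoImplicit false
set_option linter.style.haveILetI false
universe u

open CategoryTheory CategoryTheory.Limits AlgebraicGeometry Opposite IsLocalRing TensorProduct

namespace Groth.Agent.ProperLA12

open Groth.Agent.EtLimit Groth.Agent.EtFound Groth.Agent.EtBC

set_option backward.isDefEq.respectTransparency.types false

section Conv

variable {X Y T : Scheme.{u}} (h : Y ⟶ X) [QuasiCompact h] [QuasiSeparated h]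
  [PreservesFiniteLimits (EtCoh.pull h)] {π : T ⟶ X} (P : EtPres π) {Ω : Type u} [Field Ω] [IsSepClosed Ω]
  {z : Spec (CommRingCat.of Ω) ⟶ T} (hz : LiftsUniquely π z)
  [PreservesFiniteLimits (EtCoh.pull (pullback.snd h π))] (F : EtCoh.Ab X)

include P hz in
theorem bijective_hVia_of_isIso_stalk_bcQ_id (q : ℕ)
    (hiso : IsIso ((EtCoh.stalk (z ≫ π)).map (EtBC.bcQ (𝟙 X) (𝟙 X) h h rfl q F))) :
    Function.Bijective (hVia (pullback.snd h π) π (pullback.fst h π ≫ h) pullback.condition.symm F q) := by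
  let u := pullback.fst h π ≫ h
  let m : pullback h π ⟶ pullback (𝟙 X) π := pullback.lift u (pullback.snd h π)
    (by rw [Category.comp_id]; exact pullback.condition)
  have hmu : m ≫ pullback.fst (𝟙 X) π = u := pullback.lift_fst _ _ _
  haveI : PreservesFiniteLimits (EtCoh.pull m) := pull_preservesFiniteLimits _
  have hm := (isIso_stalk_bcQ_iff (f := 𝟙 X) (g := 𝟙 X) (f' := h) (g' := h) rfl (z := z) (z' := z) (u := u) rfl hmu
    hz hz (m₀ := 𝟙 T) (by rw [Category.id_comp, Category.comp_id]) (Category.comp_id _)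
    ((pullback.lift_snd _ _ _).trans (Category.comp_id _).symm) P P F q).1 hiso
  let i : T ≅ pullback (𝟙 X) π := (asIso (pullback.snd (𝟙 X) π)).symm
  let j : pullback h π ≅ pullback h π := Iso.refl _
  haveI : PreservesFiniteLimits (EtCoh.pull i.hom) := pull_preservesFiniteLimits _
  haveI : PreservesFiniteLimits (EtCoh.pull j.hom) := pull_preservesFiniteLimits _
  haveI : PreservesFiniteLimits (EtCoh.pull (j.hom ≫ m)) := pull_preservesFiniteLimits _
  refine (hVia_bijective_iff m (pullback.fst (𝟙 X) π) u hmu (pullback.snd h π) π u pullback.condition.symm i j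
    ?_ (Category.id_comp _) ?_ F q).1 hm
  · show inv (pullback.snd (𝟙 X) π) ≫ pullback.fst (𝟙 X) π = π
    rw [IsIso.inv_comp_eq, ← pullback.condition, Category.comp_id]
  · show 𝟙 _ ≫ m = pullback.snd h π ≫ inv (pullback.snd (𝟙 X) π)
    rw [Category.id_comp, IsIso.eq_comp_inv]
    exact pullback.lift_snd _ _ _

omit [QuasiCompact h] [QuasiSeparated h] [PreservesFiniteLimits (EtCoh.pull h)] in
theorem isIso_map_bc0_of_unit {D : Type*} [Category* D] (Φ : EtCoh.Ab X ⥤ D)
    [IsIso (Φ.map ((EtCoh.pullPushAdj h).unit.app F))] :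
    IsIso (Φ.map (EtCoh.baseChange0 (𝟙 X) (𝟙 X) h h rfl F)) := by
  let a := (EtCoh.pullPushAdj h).unit.app F
  let M := (EtCoh.push h).obj ((EtCoh.pull h).obj F)
  let K : (EtCoh.push (𝟙 X)).obj M ⟶ (EtCoh.push (𝟙 X)).obj M :=
    (EtCoh.pushComp (𝟙 X) h).hom.app _ ≫ (EtCoh.pushCongr (rfl : h ≫ 𝟙 X = h ≫ 𝟙 X)).hom.app _ ≫
      (EtCoh.pushComp (𝟙 X) h).inv.app _
  have e : EtCoh.baseChange0 (𝟙 X) (𝟙 X) h h rfl F =
      (EtCoh.pull (𝟙 X)).map ((EtCoh.push (𝟙 X)).map a) ≫ (EtCoh.pull (𝟙 X)).map K ≫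
        (EtCoh.pullPushAdj (𝟙 X)).counit.app M := by
    rw [EtCoh.baseChange0, Adjunction.homEquiv_counit, Functor.map_comp, Category.assoc]
  haveI := counit_isIso_of_integral_univInj (𝟙 X) M
  haveI := counit_isIso_of_integral_univInj (𝟙 X) F
  haveI : IsIso K := inferInstance
  have hnat : Φ.map ((EtCoh.pullPushAdj (𝟙 X)).counit.app F) ≫ Φ.map a =
      Φ.map ((EtCoh.pull (𝟙 X)).map ((EtCoh.push (𝟙 X)).map a)) ≫ Φ.map ((EtCoh.pullPushAdj (𝟙 X)).counit.app M) := by
    rw [← Φ.map_comp, ← Φ.map_comp]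
    exact congrArg Φ.map ((EtCoh.pullPushAdj (𝟙 X)).counit.naturality a).symm
  haveI : IsIso (Φ.map a) := ‹_›
  haveI : IsIso (Φ.map ((EtCoh.pull (𝟙 X)).map ((EtCoh.push (𝟙 X)).map a)) ≫
      Φ.map ((EtCoh.pullPushAdj (𝟙 X)).counit.app M)) := by
    rw [← hnat]
    infer_instance
  haveI : IsIso (Φ.map ((EtCoh.pull (𝟙 X)).map ((EtCoh.push (𝟙 X)).map a))) :=
    IsIso.of_isIso_comp_right _ (Φ.map ((EtCoh.pullPushAdj (𝟙 X)).counit.app M))
  rw [e, Φ.map_comp]
  infer_instance

include P hz in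
theorem bijective_hVia_of_unit (hu : IsIso ((EtCoh.stalk (z ≫ π)).map ((EtCoh.pullPushAdj h).unit.app F)))
    (hR : ∀ q, 0 < q → IsZero ((EtCoh.stalk (z ≫ π)).obj ((EtCoh.Rpush h q).obj ((EtCoh.pull h).obj F))))
    (q : ℕ) :
    Function.Bijective (hVia (pullback.snd h π) π (pullback.fst h π ≫ h) pullback.condition.symm F q) := by
  refine bijective_hVia_of_isIso_stalk_bcQ_id h P hz F q ?_
  haveI := push_preservesFiniteLimits (𝟙 X)
  haveI := push_preservesFiniteLimits h
  obtain _ | k := q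
  · haveI := hu
    haveI := isIso_map_bc0_of_unit h F (EtCoh.stalk (z ≫ π))
    let r := (EtCoh.push (𝟙 X)).toRightDerivedZero.app F
    let r' := (EtCoh.push h).toRightDerivedZero.app ((EtCoh.pull h).obj F)
    haveI : IsIso ((EtCoh.stalk (z ≫ π)).map ((EtCoh.pull (𝟙 X)).map r) ≫
        (EtCoh.stalk (z ≫ π)).map (EtBC.bcQ (𝟙 X) (𝟙 X) h h rfl 0 F)) := by
      rw [← Functor.map_comp, EtBC.bcQ_zero_compat, Functor.map_comp]
      infer_instance
    exact IsIso.of_isIso_comp_left ((EtCoh.stalk (z ≫ π)).map ((EtCoh.pull (𝟙 X)).map r)) _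
  · haveI := push_preservesFiniteColimits (𝟙 X)
    haveI : (EtCoh.stalk (z ≫ π)).Additive := Functor.additive_of_preserves_binary_products _
    have h1 : IsZero ((EtCoh.stalk (z ≫ π)).obj ((EtCoh.pull (𝟙 X)).obj ((EtCoh.Rpush (𝟙 X) (k + 1)).obj F))) := by
      haveI : (EtCoh.pull (𝟙 X)).PreservesZeroMorphisms :=
        haveI := (EtCoh.pullPushAdj (𝟙 X)).leftAdjoint_preservesColimits
        Functor.preservesZeroMorphisms_of_preserves_initial_object
      exact Functor.map_isZero _ (Functor.map_isZero _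
        (LerayDegen.isZero_rightDerived_of_exact (EtCoh.push (𝟙 X)) F k))
    exact IsZero.isIso h1 (hR (k + 1) k.succ_pos) _

end Conv

variable {X S X' : Scheme.{u}} {f : X ⟶ S} {F : EtCoh.Ab X} {RS : Type u} [CommRing RS] [IsLocalRing RS]
  {f' : X' ⟶ Spec (CommRingCat.of RS)} {p : X' ⟶ X} {x' : X'}

omit [IsLocalRing RS] in
/-- cohomology of the fibre of the strict localization from the pullback to the localized fibre -/
theorem bijective_Hpull_of_hVia (RX : Type u) [CommRing RX] [IsLocalRing RX]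
    [Algebra (X.presheaf.stalk (p x')) RX] [Algebra (X'.presheaf.stalk x') RX] [Algebra RS RX]
    (hq : Hens2.specOf X' x' RX ≫ p = Hens2.specOf X (p x') RX)
    (hψ : Hens2.specOf X' x' RX ≫ f' = Spec.map (CommRingCat.ofHom (algebraMap RS RX)))
    {Ω : Type u} [Field Ω] [Algebra RS Ω] {Xt : Scheme.{u}} (h : Xt ⟶ X')
    (ft : Xt ⟶ Spec (CommRingCat.of Ω)) (ct : IsPullback h ft f' (Spec.map (CommRingCat.ofHom (algebraMap RS Ω))))
    [PreservesFiniteLimits (EtCoh.pull (pullback.snd h (Hens2.specOf X' x' RX)))]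
    [PreservesFiniteLimits (EtCoh.pull (Spec.map (CommRingCat.ofHom (algebraMap RX (RX ⊗[RS] Ω)))))] (n : ℕ)
    (hb : Function.Bijective (hVia (pullback.snd h (Hens2.specOf X' x' RX)) (Hens2.specOf X' x' RX)
      (pullback.fst h (Hens2.specOf X' x' RX) ≫ h) pullback.condition.symm ((EtCoh.pull p).obj F) n)) :
    Function.Bijective (EtCore.Hpull (Spec.map (CommRingCat.ofHom (algebraMap RX (RX ⊗[RS] Ω))))
      ((EtCoh.pull (Hens2.specOf X (p x') RX)).obj F) n) := by
  let q := Hens2.specOf X' x' RX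
  let J : Spec (CommRingCat.of (RX ⊗[RS] Ω)) ⟶ Spec (CommRingCat.of RX) :=
    Spec.map (CommRingCat.ofHom (algebraMap RX (RX ⊗[RS] Ω)))
  have hP := (IsPullback.of_hasPullback h q).flip.paste_vert ct
  rw [hψ] at hP
  let k : pullback h q ≅ pullback (Spec.map (CommRingCat.ofHom (algebraMap RS RX)))
      (Spec.map (CommRingCat.ofHom (algebraMap RS Ω))) := hP.isoPullback
  let j : Spec (CommRingCat.of (RX ⊗[RS] Ω)) ≅ pullback h q := (pullbackSpecIso RS RX Ω).symm ≪≫ k.symm
  have hj : j.hom ≫ pullback.snd h q = J := by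
    show ((pullbackSpecIso RS RX Ω).inv ≫ k.inv) ≫ _ = J
    rw [Category.assoc]
    erw [hP.isoPullback_inv_fst]
    exact pullbackSpecIso_inv_fst' _ _ _
  haveI : PreservesFiniteLimits (EtCoh.pull (Iso.refl (Spec (CommRingCat.of RX))).hom) := pull_preservesFiniteLimits _
  haveI : PreservesFiniteLimits (EtCoh.pull j.hom) := pull_preservesFiniteLimits _
  haveI : PreservesFiniteLimits (EtCoh.pull (j.hom ≫ pullback.snd h q)) := pull_preservesFiniteLimits _
  have h1 := (hVia_bijective_iff (pullback.snd h q) q (pullback.fst h q ≫ h) pullback.condition.symm J q (J ≫ q) rfl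
    (Iso.refl _) j (Category.id_comp _) (by rw [pullback.condition, ← Category.assoc, hj])
    (by rw [hj]; exact (Category.comp_id _).symm) ((EtCoh.pull p).obj F) n).1 hb
  haveI : IsIso (appOf (θPull J q (J ≫ q) rfl) ((EtCoh.pull p).obj F)) := by delta appOf; infer_instance
  refine UnitStalk.Hpull_bijective_of_iso J ((θPull q p _ hq).inv.app F) n ?_
  exact (Function.Bijective.of_comp_iff'
    (hmap_bijective (appOf (θPull J q (J ≫ q) rfl) ((EtCoh.pull p).obj F)) n) _).1 h1

end Groth.Agent.ProperLA12
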