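import Groth.Agent.ProperLA12.Closed
import Groth.Agent.ProperLA12.Stalks
import Groth.Agent.EtModAb.Bound

/-!
# Local acyclicity of proper morphisms with locally constant direct images outside a finite set
-/

set_option autoImplicit false
set_option linter.style.haveILetI false
set_option linter.unusedSectionVars false
universe u

open CategoryTheory CategoryTheory.Limits AlgebraicGeometry Opposite IsLocalRing TensorProduct

namespace Groth.Agent.ProperLA12

open Groth.Agent.EtLimit Groth.Agent.EtFound Groth.Agent.EtBC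

set_option backward.isDefEq.respectTransparency.types false

theorem isLocallyConstant_of_finite {X : Scheme.{u}} {F : EtCoh.Ab X} (h : EtCoh.IsFiniteLocallyConstant F) :
    EtRest.IsLocallyConstant F := by
  obtain ⟨ι, U, hU, hc⟩ := h
  refine ⟨ι, U, hU, fun i => ?_⟩
  obtain ⟨M, iM, -, e⟩ := hc i
  exact ⟨ULift.{u + 1} M, inferInstance, e⟩

theorem ne_zero_of_isUnit_of_point {S : Scheme.{u}} (n : ℕ) (hn : IsUnit (n : Γ(S, ⊤))) (s : S) : n ≠ 0 := by
  rintro rfl
  rw [Nat.cast_zero, isUnit_zero_iff] at hn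
  exact zero_ne_one (α := S.presheaf.stalk s)
    ((map_zero (S.presheaf.germ ⊤ s trivial).hom).symm.trans
      ((congrArg (S.presheaf.germ ⊤ s trivial).hom hn).trans (map_one _)))

/-- the finitely many points of the closed fibre over a finite subscheme -/
theorem exists_finset_over {Xs X T : Scheme.{u}} {k : Type u} [Field k] [IsSepClosed k]
    (fs : Xs ⟶ Spec (CommRingCat.of k)) [LocallyOfFiniteType fs] (a : Xs ⟶ X) {S : Scheme.{u}} (f : X ⟶ S)
    (g : Spec (CommRingCat.of k) ⟶ S) (sq : IsPullback a fs f g) (i : T ⟶ X) [IsClosedImmersion i] [IsFinite (i ≫ f)] :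
    ∃ Z : Finset Xs, (∀ x ∈ Z, IsClosed ({x} : Set Xs)) ∧ (∀ x ∈ Z, IsSepClosed (Xs.residueField x)) ∧
      ∀ x, x ∉ Z → a.base x ∉ Set.range i.base := by
  classical
  let c := pullback.fst a i
  haveI : IsClosedImmersion c := MorphismProperty.pullback_fst _ _ inferInstance
  haveI hfin : IsFinite (c ≫ fs) :=
    MorphismProperty.of_isPullback ((IsPullback.of_hasPullback a i).flip.paste_vert sq) inferInstance
  haveI : Finite ↥(pullback a i) := by
    rw [← Set.finite_univ_iff, show (Set.univ : Set ↥(pullback a i)) =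
      (c ≫ fs).base ⁻¹' {(default : Spec (CommRingCat.of k))} from
      (Set.eq_univ_of_forall fun t => Subsingleton.elim (α := PrimeSpectrum k) _ _).symm]
    exact IsFinite.finite_preimage_singleton (f := c ≫ fs) _
  haveI : JacobsonSpace (Spec (CommRingCat.of k)) :=
    PrimeSpectrum.isJacobsonRing_iff_jacobsonSpace.1 inferInstance
  haveI : JacobsonSpace ↥(pullback a i) := LocallyOfFiniteType.jacobsonSpace (c ≫ fs)
  have hcl : ∀ x ∈ Set.range c.base, IsClosed ({x} : Set Xs) := by
    rintro _ ⟨t, rfl⟩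
    rw [← Set.image_singleton]
    exact c.isClosedEmbedding.isClosedMap _ (isClosed_discrete _)
  refine ⟨(Set.finite_range c.base).toFinset, fun x hx => hcl x ((Set.Finite.mem_toFinset _).1 hx), fun x hx =>
    isSepClosed_residueField_of_isClosed fs x (hcl x ((Set.Finite.mem_toFinset _).1 hx)), fun x hx hr => ?_⟩
  obtain ⟨t, ht⟩ := hr
  obtain ⟨z, hz, -⟩ := Scheme.Pullback.exists_preimage_pullback (f := a) (g := i) x t ht.symm
  exact hx ((Set.Finite.mem_toFinset _).2 ⟨z, hz⟩)

variable {X S : Scheme.{u}} {f : X ⟶ S} {F : EtCoh.Ab X}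

set_option maxHeartbeats 2000000 in
/-- the unit on the closed fibre of the strict localization of the base -/
theorem unit_closedFibre [IsProper f] (hF : EtCoh.IsTorsion F)
    (hlc : ∀ j : ℕ, EtRest.IsLocallyConstant ((EtCoh.Rpush f j).obj F)) {T : Scheme.{u}} (i : T ⟶ X)
    [IsClosedImmersion i] [IsFinite (i ≫ f)] (hla : ∀ x : X, x ∉ Set.range i.base → SGA4h.IsLARelAt f F x)
    {s : S} (RS : Type u) [CommRing RS] [IsLocalRing RS] [Algebra (S.presheaf.stalk s) RS]
    [IsLocalHom (algebraMap (S.presheaf.stalk s) RS)] [hRS : Hensel.IsStrictHenselization (S.presheaf.stalk s) RS]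
    {X' : Scheme.{u}} {f' : X' ⟶ Spec (CommRingCat.of RS)} {p : X' ⟶ X}
    (cX : IsPullback p f' f (Hens2.specOf S s RS)) {Ω : Type u} [Field Ω] [IsSepClosed Ω] (τ : RS →+* Ω) :
    IsIso ((EtCoh.pull (pullback.fst f' (Spec.map (CommRingCat.ofHom (residue RS))))).map
        ((EtCoh.pullPushAdj (pullback.fst f' (Spec.map (CommRingCat.ofHom τ)))).unit.app ((EtCoh.pull p).obj F))) ∧
      ∀ q : ℕ, 0 < q → IsZero ((EtCoh.pull (pullback.fst f' (Spec.map (CommRingCat.ofHom (residue RS))))).obj
          ((EtCoh.Rpush (pullback.fst f' (Spec.map (CommRingCat.ofHom τ))) q).obj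
            ((EtCoh.pull (pullback.fst f' (Spec.map (CommRingCat.ofHom τ)))).obj ((EtCoh.pull p).obj F)))) := by
  haveI := hRS.henselian
  haveI := hRS.isSepClosure.sep_closed
  haveI : IsProper f' := MorphismProperty.of_isPullback cX inferInstance
  haveI : PreservesFiniteLimits (EtCoh.pull p) := pull_preservesFiniteLimits _
  let t := Spec.map (CommRingCat.ofHom τ)
  let h := pullback.fst f' t
  let sr := Spec.map (CommRingCat.ofHom (residue RS))
  let i₀ := pullback.fst f' sr
  haveI : QuasiCompact h := MorphismProperty.pullback_fst _ _ inferInstance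
  haveI : QuasiSeparated h := MorphismProperty.pullback_fst _ _ inferInstance
  haveI : PreservesFiniteLimits (EtCoh.pull h) := pull_preservesFiniteLimits _
  haveI : IsProper (pullback.snd f' sr) := MorphismProperty.pullback_snd _ _ inferInstance
  have hF' : EtCoh.IsTorsion ((EtCoh.pull p).obj F) :=
    (BCCrit13.isLTorsion_univ_iff _).1 (isLTorsion_pull p _ ((BCCrit13.isLTorsion_univ_iff F).2 hF))
  have hM : ∀ q : ℕ, ∃ A : AddCommGrpCat.{u + 1}, Nonempty ((constantSheaf
      (Spec (CommRingCat.of RS)).smallEtaleTopology AddCommGrpCat.{u + 1}).obj A ≅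
        (EtCoh.Rpush f' q).obj ((EtCoh.pull p).obj F)) := fun q => by
    obtain ⟨A, ⟨e⟩⟩ := GenAcyc.exists_iso_const (hlc q) RS (Hens2.specOf S s RS)
    haveI := GabberAff13.isIso_bcQ f (Hens2.specOf S s RS) f' p cX q F hF
    exact ⟨A, ⟨e ≪≫ asIso (EtBC.bcQ f (Hens2.specOf S s RS) f' p cX.w q F)⟩⟩
  obtain ⟨Z, hZ, hsep, hout⟩ := exists_finset_over (pullback.snd f' sr) (i₀ ≫ p) f (sr ≫ Hens2.specOf S s RS)
    ((IsPullback.of_hasPullback f' sr).paste_horiz cX) i
  refine unit_closedFibre_of_outside f' ((EtCoh.pull p).obj F) hF' hM τ Z hZ hsep fun k _ _ η hη => ?_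
  let ξ := η ≫ i₀
  let x' : X' := ξ (default : Spec (CommRingCat.of k))
  have hx' : f' x' = closedPoint RS := by
    show f' ((η ≫ i₀) default) = _
    rw [← Scheme.Hom.comp_apply, Category.assoc, (pullback.condition : i₀ ≫ f' = _), ← Category.assoc]
    refine (Scheme.Hom.comp_apply _ _ _).trans ?_
    rw [Subsingleton.elim ((η ≫ pullback.snd f' sr) default) (closedPoint (ResidueField RS))]
    exact IsLocalRing.comap_closedPoint (residue RS)
  have hs : f (p x') = s := by
    rw [← Scheme.Hom.comp_apply, cX.w, Scheme.Hom.comp_apply, hx']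
    exact UnitStalk.specMap_closed s (algebraMap (S.presheaf.stalk s) RS)
  have hxT : p x' ∉ Set.range i.base := hout (η.base (default : Spec (CommRingCat.of k))) hη
  obtain ⟨RX, i1, i2, i3, i4, i5, i6, i7, i8, ψ, i9, hq, hψ, hbase⟩ := UnitStalk.exists_strict f cX x' hx' hs
  haveI : HenselianLocalRing RX := i8.henselian
  haveI : IsSepClosed (ResidueField RX) := i8.isSepClosure.sep_closed
  obtain ⟨P⟩ := EtLimit.nonempty_etPres_specOf X' x' RX
  obtain ⟨τk, hτk⟩ := UnitStalk.exists_resPt ξ rfl RX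
  have hz := EtBC.liftsUniquely_strict RX (Hens2.specOf X' x' RX) _ (EtBC.resPt_base RX τk)
  haveI := EtFound.pull_preservesFiniteLimits (pullback.snd h (Hens2.specOf X' x' RX))
  have hbij := fun n => UnitStalk.bijective_fibre (hla (p x') hxT) hs RX ψ hq hψ hbase τ h (pullback.snd f' t)
    (IsPullback.of_hasPullback f' t) n
  let e : EtCoh.stalk (EtBC.resPt RX τk ≫ Hens2.specOf X' x' RX) ≅ EtCoh.pull i₀ ⋙ EtCoh.stalk η :=
    EtBC.stalkToPull hτk.symm
  exact ⟨(NatIso.isIso_map_iff e _).1 (UnitStalk.isIso_stalk_unit h P hz _ (hbij 0)),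
    fun q hq' => (UnitStalk.isZero_stalk_Rpush h P hz _ q hq' (hbij q)).of_iso (e.app _).symm⟩

variable [IsProper f] (hF : EtCoh.IsTorsion F) (hlc : ∀ j : ℕ, EtRest.IsLocallyConstant ((EtCoh.Rpush f j).obj F))
  {T : Scheme.{u}} (i : T ⟶ X) [IsClosedImmersion i] [IsFinite (i ≫ f)]
  (hla : ∀ x : X, x ∉ Set.range i.base → SGA4h.IsLARelAt f F x)

include hF hlc hla in
set_option maxHeartbeats 2000000 in
theorem bijective_at {X' : Scheme.{u}} (p : X' ⟶ X) (x' : X') {RS RX : Type u} [CommRing RS] [IsLocalRing RS]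
    [Algebra (S.presheaf.stalk (f (p x'))) RS] [IsLocalHom (algebraMap (S.presheaf.stalk (f (p x'))) RS)]
    [hRS : Hensel.IsStrictHenselization (S.presheaf.stalk (f (p x'))) RS]
    {f' : X' ⟶ Spec (CommRingCat.of RS)} (cX : IsPullback p f' f (Hens2.specOf S (f (p x')) RS))
    (hx' : f' x' = closedPoint RS)
    [CommRing RX] [IsLocalRing RX] [Algebra (X.presheaf.stalk (p x')) RX]
    [IsLocalHom (algebraMap (X.presheaf.stalk (p x')) RX)]
    [hRX : Hensel.IsStrictHenselization (X.presheaf.stalk (p x')) RX] [Algebra RS RX] [IsLocalHom (algebraMap RS RX)]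
    (α' : X'.presheaf.stalk x' →+* RX) [IsLocalHom α']
    (hqp : (Spec.map (CommRingCat.ofHom α') ≫ X'.fromSpecStalk x') ≫ p = Hens2.specOf X (p x') RX)
    (hqf : (Spec.map (CommRingCat.ofHom α') ≫ X'.fromSpecStalk x') ≫ f' =
      Spec.map (CommRingCat.ofHom (algebraMap RS RX)))
    (Ω : Type u) [Field Ω] [IsSepClosed Ω] [Algebra RS Ω]
    [PreservesFiniteLimits (EtCoh.pull (Spec.map (CommRingCat.ofHom (algebraMap RX (RX ⊗[RS] Ω)))))] (q : ℕ) :
    Function.Bijective (EtCore.Hpull (Spec.map (CommRingCat.ofHom (algebraMap RX (RX ⊗[RS] Ω))))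
      ((EtCoh.pull (Hens2.specOf X (p x') RX)).obj F) q) := by
  haveI := hRX.henselian
  haveI := hRX.isSepClosure.sep_closed
  haveI := hRS.henselian
  haveI := hRS.isSepClosure.sep_closed
  let ι : X.presheaf.stalk (p x') →+* X'.presheaf.stalk x' := (p.stalkMap x').hom
  haveI : IsLocalHom ι := inferInstanceAs (IsLocalHom (p.stalkMap x').hom)
  have hc : α'.comp ι = algebraMap (X.presheaf.stalk (p x')) RX := UnitStalk.hom_eq_of_fromSpecStalk _ _ _ (by
    rw [UnitStalk.specMap_fromSpecStalk, ← Category.assoc]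
    exact hqp)
  letI : Algebra (X'.presheaf.stalk x') RX := α'.toAlgebra
  haveI : IsLocalHom (algebraMap (X'.presheaf.stalk x') RX) := ‹IsLocalHom α'›
  haveI : Hensel.IsStrictHenselization (X'.presheaf.stalk x') RX := by
    refine StrictModel13.isStrictHenselization_of_rigid ι hc fun T' _ _ f₁ f₂ _ _ h hr => ?_
    exact UnitStalk.eq_of_residue f cX hx' f₁ f₂ h hr
  let τ := algebraMap RS Ω
  let t := Spec.map (CommRingCat.ofHom τ)
  let h := pullback.fst f' t
  let sr := Spec.map (CommRingCat.ofHom (residue RS))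
  let i₀ := pullback.fst f' sr
  haveI : QuasiCompact h := MorphismProperty.pullback_fst _ _ inferInstance
  haveI : QuasiSeparated h := MorphismProperty.pullback_fst _ _ inferInstance
  haveI : PreservesFiniteLimits (EtCoh.pull h) := pull_preservesFiniteLimits _
  let π := Hens2.specOf X' x' RX
  haveI := EtFound.pull_preservesFiniteLimits (pullback.snd h π)
  obtain ⟨hu, hz0⟩ := unit_closedFibre hF hlc i hla RS cX (Ω := Ω) τ
  obtain ⟨P⟩ := EtLimit.nonempty_etPres_specOf X' x' RX
  let τk : ResidueField RX →+* ResidueField RX := RingHom.id _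
  have hz := EtBC.liftsUniquely_strict RX π _ (EtBC.resPt_base RX τk)
  let η : Spec (CommRingCat.of (ResidueField RX)) ⟶ pullback f' sr :=
    pullback.lift (EtBC.resPt RX τk ≫ π) (Spec.map (CommRingCat.ofHom (ResidueField.map (algebraMap RS RX)))) (by
      rw [Category.assoc, show π ≫ f' = Spec.map (CommRingCat.ofHom (algebraMap RS RX)) from hqf, EtBC.resPt,
        ← Spec.map_comp, ← Spec.map_comp]
      rfl)
  have hη : η ≫ i₀ = EtBC.resPt RX τk ≫ π := pullback.lift_fst _ _ _
  let e : EtCoh.stalk (EtBC.resPt RX τk ≫ π) ≅ EtCoh.pull i₀ ⋙ EtCoh.stalk η := EtBC.stalkToPull hη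
  have hb := bijective_hVia_of_unit h P hz ((EtCoh.pull p).obj F)
    ((NatIso.isIso_map_iff e _).2 (by
      haveI := hu
      exact inferInstanceAs (IsIso ((EtCoh.stalk η).map _))))
    (fun k hk => ((EtCoh.stalk η).map_isZero (hz0 k hk)).of_iso (e.app _)) q
  exact bijective_Hpull_of_hVia (F := F) RX hqp hqf h (pullback.snd f' t) (IsPullback.of_hasPullback f' t) q hb

include hF hlc hla in
theorem bijective_at' {X' : Scheme.{u}} (p : X' ⟶ X) (x' : X') {x : X} (hpx : p x' = x) {RS RX : Type u} [CommRing RS]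
    [IsLocalRing RS] [Algebra (S.presheaf.stalk (f x)) RS] [IsLocalHom (algebraMap (S.presheaf.stalk (f x)) RS)]
    [Hensel.IsStrictHenselization (S.presheaf.stalk (f x)) RS]
    {f' : X' ⟶ Spec (CommRingCat.of RS)} (cX : IsPullback p f' f (Hens2.specOf S (f x) RS))
    (hx' : f' x' = closedPoint RS)
    [CommRing RX] [IsLocalRing RX] [Algebra (X.presheaf.stalk x) RX] [IsLocalHom (algebraMap (X.presheaf.stalk x) RX)]
    [Hensel.IsStrictHenselization (X.presheaf.stalk x) RX] [Algebra RS RX] [IsLocalHom (algebraMap RS RX)]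
    (qq : Spec (CommRingCat.of RX) ⟶ X') (hx : qq (closedPoint RX) = x')
    (hqp : qq ≫ p = Hens2.specOf X x RX) (hqf : qq ≫ f' = Spec.map (CommRingCat.ofHom (algebraMap RS RX)))
    (Ω : Type u) [Field Ω] [IsSepClosed Ω] [Algebra RS Ω]
    [PreservesFiniteLimits (EtCoh.pull (Spec.map (CommRingCat.ofHom (algebraMap RX (RX ⊗[RS] Ω)))))] (q : ℕ) :
    Function.Bijective (EtCore.Hpull (Spec.map (CommRingCat.ofHom (algebraMap RX (RX ⊗[RS] Ω))))
      ((EtCoh.pull (Hens2.specOf X x RX)).obj F) q) := by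
  subst hpx
  obtain ⟨α', hα', hα'e⟩ := UnitStalk.exists_stalk_hom qq hx
  exact bijective_at hF hlc i hla p x' cX hx' α' ((congrArg (· ≫ p) hα'e).trans hqp)
    ((congrArg (· ≫ f') hα'e).trans hqf) Ω q

include hF hlc hla in
theorem isLARel : SGA4h.IsLARel f F := by
  intro x RS RX _ _ _ _ _ _ hRS _ _ hRX _ _ hcomp Ω _ _ _ _ q
  let g := Hens2.specOf S (f x) RS
  have hw : Hens2.specOf X x RX ≫ f = Spec.map (CommRingCat.ofHom (algebraMap RS RX)) ≫ g := by
    show _ = Spec.map (CommRingCat.ofHom (algebraMap RS RX)) ≫ Hens2.specOf S (f x) RS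
    rw [Hens2.specOf, Hens2.specOf, Category.assoc, ← Category.assoc (Spec.map (CommRingCat.ofHom (algebraMap RS RX))),
      ← Spec.map_comp, ← CommRingCat.ofHom_comp, hcomp, UnitStalk.specMap_fromSpecStalk]
  let cX := IsPullback.of_hasPullback f g
  let p := pullback.fst f g
  let f' := pullback.snd f g
  let qq : Spec (CommRingCat.of RX) ⟶ pullback f g := pullback.lift _ _ hw
  have hqp : qq ≫ p = Hens2.specOf X x RX := pullback.lift_fst _ _ _
  have hqf : qq ≫ f' = Spec.map (CommRingCat.ofHom (algebraMap RS RX)) := pullback.lift_snd _ _ _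
  obtain ⟨x', hx⟩ : ∃ x', qq (closedPoint RX) = x' := ⟨_, rfl⟩
  have hpx : p x' = x := by
    rw [← hx, ← Scheme.Hom.comp_apply, hqp]
    exact UnitStalk.specMap_closed x (algebraMap (X.presheaf.stalk x) RX)
  have hfx : f' x' = closedPoint RS := by
    rw [← hx, ← Scheme.Hom.comp_apply, hqf]
    exact IsLocalRing.comap_closedPoint (algebraMap RS RX)
  exact bijective_at' hF hlc i hla p x' hpx cX hfx qq hx hqp hqf Ω q

end Groth.Agent.ProperLA12
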